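import Cfsg.Agent.FS.N.M.E.dA10
import Cfsg.Agent.FS.N.Sp.NT
import Cfsg.Agent.FS.N.Sp.Sym

/-!
# Several models on `dA10` (helper44, project FS/N; generated)
-/

set_option autoImplicit false

namespace Cfsg.Agent.FS.N.M

open Cfsg Cfsg.Agent.FS.Real Cfsg.Agent.FS.N.Sp

theorem nt_S8_S43_0 : NT dA10 Sp.GS8.x S43_0.x :=
  haveI := S43_0.all.1.fin
  nt_of_sep (Sp.GS8.p7.sep_card Sp.GS8.o7 (Fam.not_dvd S43.Φ rfl S43.hB S43_0.all.2 (by decide +kernel)))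

theorem models_dA10_2 : Models2 ⟨dA10, 2, 0⟩ 2 :=
  models2_two Sp.GS8.rz2
    S43_0.rz2
    nt_S8_S43_0

end Cfsg.Agent.FS.N.M
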