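import Cfsg.Agent.FS.N.M.E.dJ2
import Cfsg.Agent.FS.N.Sp.NT

/-!
# Several models on `dJ2` (helper44, project FS/N; generated)
-/

set_option autoImplicit false

namespace Cfsg.Agent.FS.N.M

open Cfsg Cfsg.Agent.FS.Real Cfsg.Agent.FS.N.Sp

theorem nt_L34_3_P34_3 : NT dJ2 L34_3.x P34_3.x :=
  (haveI := L34_3.all.1.fin
  nt_cent P34_3.pos P34_3.orb (by decide +kernel) P34_3.all.1.hk (by decide +kernel) L34_3.all.1.hk
    (L34_neg L34_3.hy L34_3.all.1 L34_3.all.1 (by decide +kernel))).symm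

theorem models_dJ2_60 : Models2 ⟨dJ2, 60, 2⟩ 2 :=
  models2_two (L34_3.all.1.rz2' L34_3.lam60 (fun k => by cases k) fun _ => R34.r34_SL L34_3.hy L34_3.all.1)
    (P34_3.all.1.rz2' P34_3.lam60 (fun k => by cases k) fun _ => R34.r34_GL P34_3.hy P34_3.all.1)
    nt_L34_3_P34_3

end Cfsg.Agent.FS.N.M
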