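import Cfsg.Agent.FS.N.M.E.dLy
import Cfsg.Agent.FS.N.Sp.NT
import Cfsg.Agent.FS.N.Sq.J2
import Cfsg.Agent.FS.N.Sq.J3
import Cfsg.Agent.FS.N.Sq.McL

/-!
# Several models on `dLy` (helper44, project FS/N; generated)
-/

set_option autoImplicit false

namespace Cfsg.Agent.FS.N.M

open Cfsg Cfsg.Agent.FS.Real Cfsg.Agent.FS.N.Sp

theorem models2_four {p : Ent} {G₁ G₂ G₃ G₄ : Type} [Group G₁] [Group G₂] [Group G₃] [Group G₄] {x₁ : ℕ → G₁}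
    {x₂ : ℕ → G₂} {x₃ : ℕ → G₃} {x₄ : ℕ → G₄} (h₁ : Rz2 p G₁ x₁) (h₂ : Rz2 p G₂ x₂) (h₃ : Rz2 p G₃ x₃) (h₄ : Rz2 p G₄ x₄)
    (s₁ : NT p.D x₁ x₂) (s₂ : NT p.D x₁ x₃) (s₃ : NT p.D x₁ x₄) (s₄ : NT p.D x₂ x₃) (s₅ : NT p.D x₂ x₄)
    (s₆ : NT p.D x₃ x₄) : Models2 p 4 :=
  models2_list [⟨G₁, x₁, h₁⟩, ⟨G₂, x₂, h₂⟩, ⟨G₃, x₃, h₃⟩, ⟨G₄, x₄, h₄⟩] (by
    simp only [List.pairwise_cons, List.forall_mem_cons, List.not_mem_nil, IsEmpty.forall_iff, implies_true, and_true,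
      List.Pairwise.nil]
    exact ⟨⟨s₁, s₂, s₃⟩, ⟨s₄, s₅⟩, s₆⟩)

theorem nt_J22_J32 : NT dLy Sq.GJ2.x Sq.GJ3.x :=
  Sq.nt_J3_J2.symm

theorem nt_J22_L34_4 : NT dLy Sq.GJ2.x L34_4.x :=
  nt_cnt Sq.GJ2.base.hk L34_4.all.1.hk (by decide +kernel)

theorem nt_J22_P34_4 : NT dLy Sq.GJ2.x P34_4.x :=
  nt_cnt Sq.GJ2.base.hk P34_4.all.1.hk (by decide +kernel)

theorem nt_J32_L34_4 : NT dLy Sq.GJ3.x L34_4.x :=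
  nt_cnt Sq.GJ3.base.hk L34_4.all.1.hk (by decide +kernel)

theorem nt_J32_P34_4 : NT dLy Sq.GJ3.x P34_4.x :=
  nt_cnt Sq.GJ3.base.hk P34_4.all.1.hk (by decide +kernel)

theorem nt_L34_4_P34_4 : NT dLy L34_4.x P34_4.x :=
  (haveI := L34_4.all.1.fin
  nt_cent P34_4.pos P34_4.orb (by decide +kernel) P34_4.all.1.hk (by decide +kernel) L34_4.all.1.hk
    (L34_neg L34_4.hy L34_4.all.1 L34_4.all.1 (by decide +kernel))).symm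

theorem models_dLy_8 : Models2 ⟨dLy, 8, 0⟩ 4 :=
  models2_four Sq.GJ2.rz Sq.GJ3.rz L34_4.rz8 P34_4.rz8
    nt_J22_J32 nt_J22_L34_4 nt_J22_P34_4 nt_J32_L34_4 nt_J32_P34_4 nt_L34_4_P34_4

theorem nt_McL2_L45_3 : NT dLy Sq.GMc.x L45_3.x :=
  haveI := L45_3.all.1.fin
  nt_of_sep (Sq.GMc.p7.sep_card (by decide +kernel) (Fam.not_dvd L45.Φ rfl L45.hB L45_3.all.2 (by decide +kernel)))

theorem nt_McL2_L34_4 : NT dLy Sq.GMc.x L34_4.x :=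
  nt_cnt Sq.GMc.base.hk L34_4.all.1.hk (by decide +kernel)

theorem nt_McL2_P34_4 : NT dLy Sq.GMc.x P34_4.x :=
  nt_cnt Sq.GMc.base.hk P34_4.all.1.hk (by decide +kernel)

theorem nt_L45_3_L34_4 : NT dLy L45_3.x L34_4.x :=
  nt_cnt L45_3.all.1.hk L34_4.all.1.hk (by decide +kernel)

theorem nt_L45_3_P34_4 : NT dLy L45_3.x P34_4.x :=
  nt_cnt L45_3.all.1.hk P34_4.all.1.hk (by decide +kernel)

theorem models_dLy_2 : Models2 ⟨dLy, 2, 0⟩ 4 :=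
  models2_four Sq.GMc.rz L45_3.rz2 L34_4.rz2 P34_4.rz2
    nt_McL2_L45_3 nt_McL2_L34_4 nt_McL2_P34_4 nt_L45_3_L34_4 nt_L45_3_P34_4 nt_L34_4_P34_4

theorem models_dLy_10 : Models2 ⟨dLy, 10, 0⟩ 2 :=
  models2_two L34_4.rz10
    P34_4.rz10
    nt_L34_4_P34_4

end Cfsg.Agent.FS.N.M
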