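import Cfsg.Agent.FS.N.M.E.dM222
import Cfsg.Agent.FS.N.Sp.NT
import Cfsg.Agent.FS.N.Sq.M22

/-!
# Several models on `dM222` (helper44, project FS/N; generated)
-/

set_option autoImplicit false

namespace Cfsg.Agent.FS.N.M

open Cfsg Cfsg.Agent.FS.Real Cfsg.Agent.FS.N.Sp

open Cfsg.Agent.FS.N.Sq (dM222 dM222_ok)

theorem nt_M222_L45_2 : NT dM222 Sq.GM22.x L45_2.x :=
  (haveI := Sq.GM22.base.fin
  nt_of_sep (L45_2.pos.sep_cent L45_2.orb (by decide +kernel) Sq.GM22.cent9)).symm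

theorem models_dM222_1 : Models2 ⟨dM222, 1, 0⟩ 2 :=
  models2_two Sq.GM22.rz
    L45_2.rz1
    nt_M222_L45_2

end Cfsg.Agent.FS.N.M
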