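import Cfsg.Agent.FS.N.M.E.dS10
import Cfsg.Agent.FS.N.Sp.NT
import Cfsg.Agent.FS.N.Sp.Sym

/-!
# Several models on `dS10` (helper44, project FS/N; generated)
-/

set_option autoImplicit false

namespace Cfsg.Agent.FS.N.M

open Cfsg Cfsg.Agent.FS.Real Cfsg.Agent.FS.N.Sp

theorem nt_S10_L43_1 : NT dS10 Sp.GS10.x L43_1.x :=
  (haveI := Sp.GS10.base.fin
  nt_cent L43_1.pos L43_1.orb (by decide +kernel) L43_1.all.1.hk (by decide +kernel) Sp.GS10.base.hk fun w hw k => by
    have h : w = 1 ∨ w = 128 ∨ w = 129 := by simpa [dS10] using hw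
    rcases h with rfl | rfl | rfl
    · exact absurd k (by decide +kernel)
    · exact Sp.GS10.neg
    · exact absurd k (by decide +kernel)).symm

theorem models_dS10_1 : Models2 ⟨dS10, 1, 0⟩ 2 :=
  models2_two Sp.GS10.rz2
    L43_1.rz1
    nt_S10_L43_1

end Cfsg.Agent.FS.N.M
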