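import Cfsg.Agent.FS.N.M.E.eL433
import Cfsg.Agent.FS.N.Sp.NT

/-!
# Several models on `eL433` (helper44, project FS/N; generated)
-/

set_option autoImplicit false

namespace Cfsg.Agent.FS.N.M

open Cfsg Cfsg.Agent.FS.Real Cfsg.Agent.FS.N.Sp

theorem nt_L43_3_S49_1 : NT eL433 L43_3.x S49_1.x :=
  nt_cnt L43_3.all.1.hk S49_1.all.1.hk (by decide +kernel)

theorem models_eL433_3 : Models2 ⟨eL433, 3, 0⟩ 2 :=
  models2_two L43_3.rz3
    S49_1.rz3
    nt_L43_3_S49_1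

end Cfsg.Agent.FS.N.M
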