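import Cfsg.Agent.FS.N.M.E.eLb5
import Cfsg.Agent.FS.N.Sp.NT

/-!
# Several models on `eLb5` (helper44, project FS/N; generated)
-/

set_option autoImplicit false

namespace Cfsg.Agent.FS.N.M

open Cfsg Cfsg.Agent.FS.Real Cfsg.Agent.FS.N.Sp

theorem nt_Lb_5_Qb_0 : NT eLb5 Lb_5.x Qb_0.x :=
  nt_cnt Lb_5.all.1.hk Qb_0.all.1.hk (by decide +kernel)

theorem models_eLb5_1 : Models2 ⟨eLb5, 1, 0⟩ 2 :=
  models2_two Lb_5.rz1
    Qb_0.rz1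
    nt_Lb_5_Qb_0

end Cfsg.Agent.FS.N.M
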