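import Cfsg.Agent.FS.N.M.E.eLb6
import Cfsg.Agent.FS.N.Sp.NT

/-!
# Several models on `eLb6` (helper44, project FS/N; generated)
-/

set_option autoImplicit false

namespace Cfsg.Agent.FS.N.M

open Cfsg Cfsg.Agent.FS.Real Cfsg.Agent.FS.N.Sp

theorem nt_Lb_6_Qb_1 : NT eLb6 Lb_6.x Qb_1.x :=
  nt_cnt Lb_6.all.1.hk Qb_1.all.1.hk (by decide +kernel)

theorem models_eLb6_3 : Models2 ⟨eLb6, 3, 0⟩ 2 :=
  models2_two Lb_6.rz3
    Qb_1.rz3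
    nt_Lb_6_Qb_1

end Cfsg.Agent.FS.N.M
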