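import Cfsg.Agent.FS.N.M.E.eLc8
import Cfsg.Agent.FS.N.Sp.NT

/-!
# Several models on `eLc8` (helper44, project FS/N; generated)
-/

set_option autoImplicit false

namespace Cfsg.Agent.FS.N.M

open Cfsg Cfsg.Agent.FS.Real Cfsg.Agent.FS.N.Sp

theorem nt_Lc_8_Qc_1 : NT eLc8 Lc_8.x Qc_1.x :=
  nt_cnt Lc_8.all.1.hk Qc_1.all.1.hk (by decide +kernel)

theorem models_eLc8_1 : Models2 ⟨eLc8, 1, 0⟩ 2 :=
  models2_two Lc_8.rz1
    Qc_1.rz1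
    nt_Lc_8_Qc_1

end Cfsg.Agent.FS.N.M
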